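import Cfsg.Agent.KFacts.RgdLieCharP
import Cfsg.Agent.KFacts.RgdOpp
import Cfsg.Agent.H818.StrP.Row_m3
import Cfsg.Agent.FastGrp
import Cfsg.Agent.Prune
set_option linter.all false
prune_inst 0x7f00000000000000000000000000000000000000000000000000000000000000000000000000000000000000000000000000000000000000000000000000000000000000000000000000000000000000003fffffffffffffffffffffffffffbeffbdffffffff
open scoped Cfsg.Agent.FastGrp

/-!
# Opposite radicals and strongly `p`-embedded subgroups in groups of Lie type of characteristic `r ≠ p`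

* `opp_radicals` : a `p`-subgroup `E` normalizing a non-trivial `r`-subgroup normalizes two `r`-subgroups generating `G`
  (the radicals of two opposite parabolic subgroups);
* `noSP_of_local` : hence no strongly `p`-embedded subgroups if some non-cyclic elementary abelian `p`-group
  normalizes a non-trivial `r`-subgroup.
(The proof is that of `GammaTwo.Lie.gen_of_filt`.)
-/

set_option autoImplicit false
set_option linter.unusedSectionVars false

namespace Cfsg.Agent.H818.StrP.Opp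

open Cfsg CoxeterSystem Cfsg.Agent.ChevalleyStructure.CoxeterGeom Cfsg.Agent.Tits.Roots Cfsg.Agent.Tits.Core
  Cfsg.Agent.Tits.RootComb Cfsg.Agent.Tits.Exchange Cfsg.Agent.Nodes.Reps Cfsg.Agent.Nodes.BNOf
  Cfsg.Agent.Nodes.StabComb Cfsg.Agent.Nodes.Bruhat Cfsg.Agent.Nodes.OppDec Cfsg.Agent.Nodes.LeviDec
  Cfsg.Agent.Nodes.NormX Cfsg.Agent.KFacts.RgdPar Cfsg.Agent.KFacts.RgdCharP Cfsg.Agent.KFacts.RgdFilt

/-- a `p`-subgroup is conjugate into a subgroup of index prime to `p` -/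
theorem exists_conj_le_of_index {H : Type*} [Group H] [Finite H] {p : ℕ} [Fact p.Prime] (L : Subgroup H)
    (hL : ¬ p ∣ L.index) {E : Subgroup H} (hE : IsPGroup p E) :
    ∃ y : H, E.map (MulAut.conj y).toMonoidHom ≤ L := by
  obtain ⟨Q⟩ := (inferInstance : Nonempty (Sylow p ↥L))
  have h1 : IsPGroup p ((Q : Subgroup ↥L).map L.subtype) := Q.isPGroup'.map _
  have h2 : ¬ p ∣ ((Q : Subgroup ↥L).map L.subtype).index := by
    rw [Subgroup.index_map_subtype]
    intro h
    rcases (Fact.out : p.Prime).dvd_mul.1 h with h3 | h3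
    · exact Q.not_dvd_index h3
    · exact hL h3
  obtain ⟨P, hP⟩ := hE.exists_le_sylow
  obtain ⟨y, hy⟩ := MulAction.exists_smul_eq H P (h1.toSylow h2)
  refine ⟨y, ?_⟩
  have h3 : E.map (MulAut.conj y).toMonoidHom ≤ ((y • P : Sylow p H) : Subgroup H) := Subgroup.map_mono hP
  rw [hy] at h3
  refine h3.trans ?_
  rintro _ ⟨q, -, rfl⟩
  exact q.2

section Gen

variable {I W Y : Type*} [Fintype I] [DecidableEq I] [Group W] [Group Y] {M : CoxeterMatrix I}
  {cs : CoxeterSystem M W} {A : I → I → ℤ} {h : IsCartan M A} {r : ℕ} {T : Subgroup Y} {n : I → Y}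
  {X : (I → ℤ) → Subgroup Y}

variable (R : RGD cs h r T n X)

include R

theorem isPGroup_VNJ [Finite W] (J : Set I) : IsPGroup r (VNJ cs h X J) := by
  have h1 := isPGroup_VJ (KFacts.RgdOpp.opp R) J
  have h2 : VJ cs h (fun x => X (-x)) J = VNJ cs h X J := by
    show RGD.Sup (fun x => X (-x)) (NotJ cs h J) = RGD.Sup X (NotNJ cs h J)
    rw [KFacts.RgdOpp.Sup_opp]
    rfl
  rwa [h2] at h1

/-- the two opposite radicals generate a subgroup normalised by everything -/
theorem GG_le_normalizer [Finite W] (J : Set I) :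
    GG cs h T X ≤ Subgroup.normalizer ((VJ cs h X J ⊔ VNJ cs h X J : Subgroup Y) : Set Y) := by
  have hL : LJ cs h T X J ≤ Subgroup.normalizer ((VJ cs h X J ⊔ VNJ cs h X J : Subgroup Y) : Set Y) := by
    intro l hl
    have h1 := LJ_le_normalizer_VJ R J hl
    have h2 := LJ_le_normalizer_VNJ R J hl
    rw [mem_normalizer_iff_cj] at h1 h2 ⊢
    rw [cj_sup, h1, h2]
  have hV : VJ cs h X J ⊔ VNJ cs h X J ≤
      Subgroup.normalizer ((VJ cs h X J ⊔ VNJ cs h X J : Subgroup Y) : Set Y) := Subgroup.le_normalizer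
  refine sup_le (T_le_LJ.trans hL) (RGD.Sup_le fun x hx => ?_)
  have key : ∀ z, IsRoot cs h z → 0 ≤ z → z ∉ RootsJ cs h J → z ∈ NotJ cs h J := by
    intro z hz h0 hJ
    refine ⟨hz, h0, ?_⟩
    by_contra hcon
    push Not at hcon
    exact hJ ⟨hz, fun k hk => le_antisymm (hcon k hk) (h0 k)⟩
  by_cases hJ : x ∈ RootsJ cs h J
  · exact (X_le_LJ hJ).trans hL
  · rcases hx.pos_or_neg with h1 | h1
    · exact ((RGD.le_Sup (key x hx h1 hJ)).trans le_sup_left).trans hV
    · have h2 : x ∈ NotNJ cs h J := by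
        refine key (-x) hx.neg (neg_nonneg.2 h1) fun hJ' => hJ ⟨hx, fun k hk => ?_⟩
        have := hJ'.2 k hk
        rwa [Pi.neg_apply, neg_eq_zero] at this
      exact ((RGD.le_Sup h2).trans le_sup_right).trans hV

end Gen

variable {G : Type*} [Group G] [Finite G] [IsSimpleGroup G] {p r : ℕ} [hp : Fact p.Prime] [hr : Fact r.Prime]

/-- **Opposite radicals.** A `p`-subgroup normalizing a non-trivial `r`-subgroup normalizes two `r`-subgroups that
generate `G`. -/
theorem opp_radicals (hG : HasFilt r G) (hc : ∃ a b : G, a * b ≠ b * a) (hpr : p ≠ r) {E K : Subgroup G}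
    (hK : IsPGroup r K) (hK1 : K ≠ ⊥) (hEp : IsPGroup p E)
    (hEK : E ≤ Subgroup.normalizer (K : Set G)) :
    ∃ V V' : Subgroup G, IsPGroup r V ∧ IsPGroup r V' ∧ E ≤ Subgroup.normalizer (V : Set G) ∧
      E ≤ Subgroup.normalizer (V' : Set G) ∧ V ⊔ V' = ⊤ := by
  obtain ⟨l, M, A, h, T, n, X, R, hW, hBT, hGG, hN, hconn, hX, hl⟩ := hG.data hc
  obtain ⟨g, J, hJ, h1, h2⟩ := hBT K hK hK1
  set cs := M.toCoxeterSystem
  have hcopr : ∀ Z : Subgroup G, IsPGroup r Z → ¬ p ∣ Nat.card Z := by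
    intro Z hZ hd
    obtain ⟨m, hm⟩ := IsPGroup.iff_card.1 hZ
    rw [hm] at hd
    exact hpr ((Nat.prime_dvd_prime_iff_eq hp.out hr.out).1 (hp.out.dvd_of_dvd_pow hd))
  -- `E` is conjugate into the Levi complement
  have h3 : cj g⁻¹ E ≤ PJ cs h T X J := by
    intro y hy
    rw [mem_cj, inv_inv] at hy
    have h4 := h2 (hEK hy)
    rw [mem_cj] at h4
    have : g⁻¹ * (g * y * g⁻¹) * g = y := by group
    rwa [this] at h4
  have hidx : ¬ p ∣ ((LJ cs h T X J).subgroupOf (PJ cs h T X J)).index := by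
    have h5 : Nat.card (PJ cs h T X J) = Nat.card (LJ cs h T X J) * Nat.card (VJ cs h X J) := by
      have h6 : Disjoint (LJ cs h T X J) (VJ cs h X J) := disjoint_iff.2 (LJ_inf_VJ R J)
      have h7 : Subgroup.IsComplement' ((LJ cs h T X J).subgroupOf (PJ cs h T X J))
          ((VJ cs h X J).subgroupOf (PJ cs h T X J)) := by
        refine Subgroup.isComplement'_of_disjoint_and_mul_eq_univ ?_ ?_
        · rw [disjoint_iff, eq_bot_iff]
          intro y hy
          have : (y : G) ∈ LJ cs h T X J ⊓ VJ cs h X J := ⟨hy.1, hy.2⟩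
          rw [LJ_inf_VJ R J] at this
          exact Subgroup.mem_bot.2 (Subtype.ext (Subgroup.mem_bot.1 this))
        · rw [Set.eq_univ_iff_forall]
          intro y
          obtain ⟨a, ha, v, hv, e⟩ := (mem_PJ R).1 y.2
          exact ⟨⟨a, LJ_le_PJ ha⟩, ha, ⟨v, VJ_le_PJ hv⟩, hv, Subtype.ext e.symm⟩
      have h8 := h7.card_mul
      rw [Nat.card_congr (Subgroup.subgroupOfEquivOfLe LJ_le_PJ).toEquiv,
        Nat.card_congr (Subgroup.subgroupOfEquivOfLe VJ_le_PJ).toEquiv] at h8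
      exact h8.symm
    have h9 : ((LJ cs h T X J).subgroupOf (PJ cs h T X J)).index = Nat.card (VJ cs h X J) := by
      have h10 := Subgroup.card_mul_index ((LJ cs h T X J).subgroupOf (PJ cs h T X J))
      rw [Nat.card_congr (Subgroup.subgroupOfEquivOfLe LJ_le_PJ).toEquiv, h5] at h10
      exact Nat.eq_of_mul_eq_mul_left Nat.card_pos h10
    rw [h9]
    exact hcopr _ (isPGroup_VJ R J)
  have hE'p : IsPGroup p ((cj g⁻¹ E).subgroupOf (PJ cs h T X J)) := by
    have : IsPGroup p (cj g⁻¹ E) := hEp.map _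
    exact this.comap_subtype
  obtain ⟨y, hy⟩ := exists_conj_le_of_index _ hidx hE'p
  have h5 : cj (y : G) (cj g⁻¹ E) ≤ LJ cs h T X J := by
    intro z hz
    rw [mem_cj] at hz
    have hz2 : (y : G)⁻¹ * z * y ∈ PJ cs h T X J := h3 hz
    have hz3 : z ∈ PJ cs h T X J := by
      have : z = y * ((y : G)⁻¹ * z * y) * (y : G)⁻¹ := by group
      rw [this]
      exact mul_mem (mul_mem y.2 hz2) (inv_mem y.2)
    have := hy (x := (⟨z, hz3⟩ : ↥(PJ cs h T X J))) ⟨⟨(y : G)⁻¹ * z * y, hz2⟩, hz, Subtype.ext (by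
      show (y : G) * ((y : G)⁻¹ * z * y) * (y : G)⁻¹ = z
      group)⟩
    exact this
  set a : G := g * (y : G)⁻¹ with ha
  have hEL : E ≤ cj a (LJ cs h T X J) := by
    intro e he
    rw [mem_cj]
    apply h5
    rw [mem_cj, mem_cj, ha]
    have : g⁻¹⁻¹ * ((y : G)⁻¹ * ((g * (y : G)⁻¹)⁻¹ * e * (g * (y : G)⁻¹)) * y) * g⁻¹ = e := by group
    rwa [← this] at he
  have hEV : E ≤ Subgroup.normalizer (cj a (VJ cs h X J) : Set G) := by
    rw [normalizer_cj]
    exact hEL.trans (cj_mono a (LJ_le_normalizer_VJ R J))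
  have hEVN : E ≤ Subgroup.normalizer (cj a (VNJ cs h X J) : Set G) := by
    rw [normalizer_cj]
    exact hEL.trans (cj_mono a (LJ_le_normalizer_VNJ R J))
  have h8 : (VJ cs h X J ⊔ VNJ cs h X J : Subgroup G) = ⊤ := by
    have h9 := GG_le_normalizer R J
    rw [hGG, top_le_iff, Subgroup.normalizer_eq_top_iff] at h9
    rcases h9.eq_bot_or_eq_top with h10 | h10
    · exfalso
      have h11 : VJ cs h X J = ⊥ := by
        rw [eq_bot_iff, ← h10]; exact le_sup_left
      apply hK1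
      rw [eq_bot_iff]
      refine h1.trans ?_
      rw [h11]
      exact (Subgroup.map_bot _).le
    · exact h10
  refine ⟨cj a (VJ cs h X J), cj a (VNJ cs h X J), (isPGroup_VJ R J).map _, (isPGroup_VNJ R J).map _, hEV, hEVN, ?_⟩
  rw [← cj_sup, h8, eq_top_iff]
  intro z _
  rw [mem_cj]
  trivial

/-- an `r`-group has order prime to `p` -/
theorem not_dvd_card_of_isPGroup (hpr : p ≠ r) {Z : Subgroup G} (hZ : IsPGroup r Z) : ¬ p ∣ Nat.card Z := by
  intro hd
  obtain ⟨m, hm⟩ := IsPGroup.iff_card.1 hZ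
  rw [hm] at hd
  exact hpr ((Nat.prime_dvd_prime_iff_eq hp.out hr.out).1 (hp.out.dvd_of_dvd_pow hd))

/-- **No strongly `p`-embedded subgroups** if a non-cyclic elementary abelian `p`-group normalizes a non-trivial
`r`-subgroup. -/
theorem noSP_of_local (hG : HasFilt r G) (hc : ∃ a b : G, a * b ≠ b * a) (hpr : p ≠ r) {E K : Subgroup G}
    (hK : IsPGroup r K) (hK1 : K ≠ ⊥) (hE : IsElementaryAbelian p E) (hE2 : p ^ 2 ≤ Nat.card E)
    (hEK : E ≤ Subgroup.normalizer (K : Set G)) : NoSP p G := by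
  have hEp : IsPGroup p E := fun a => ⟨1, Subtype.ext (by rw [pow_one]; exact hE.2 a.1 a.2)⟩
  intro M hM
  obtain ⟨g, hg⟩ := exists_conj_mem hM hEp
  set E' := E.map (MulAut.conj g).toMonoidHom with hE'
  set K' := K.map (MulAut.conj g).toMonoidHom with hK'
  have hE'p : IsPGroup p E' := hEp.map _
  have hK'r : IsPGroup r K' := hK.map _
  have hK'1 : K' ≠ ⊥ := by
    rw [Ne, hK', Subgroup.map_eq_bot_iff_of_injective _ (MulAut.conj g).injective]
    exact hK1
  have hE'K : E' ≤ Subgroup.normalizer (K' : Set G) := by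
    rw [hK', EvenType.StrongP.normalizer_map_conj]
    exact Subgroup.map_mono hEK
  have hE'e : IsElementaryAbelian p E' := by
    refine ⟨?_, ?_⟩
    · have := hE.1
      exact Subgroup.map_isMulCommutative E (MulAut.conj g).toMonoidHom
    · rintro _ ⟨x, hx, rfl⟩
      rw [← map_pow, hE.2 x hx, map_one]
  have hE'2 : p ^ 2 ≤ Nat.card E' := by
    rw [hE', Nat.card_congr (Subgroup.equivMapOfInjective E _ (MulAut.conj g).injective).toEquiv.symm]
    exact hE2
  obtain ⟨V, V', hV, hV', h1, h2, h3⟩ := opp_radicals hG hc hpr hK'r hK'1 hE'p hE'K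
  have h4 := coprime_le hM hE'e hE'2 hg (not_dvd_card_of_isPGroup hpr hV) h1
  have h5 := coprime_le hM hE'e hE'2 hg (not_dvd_card_of_isPGroup hpr hV') h2
  exact hM.2.1 (top_le_iff.1 (h3 ▸ sup_le h4 h5))

end Cfsg.Agent.H818.StrP.Opp
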